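import Groth.Agent.Comod.Coeff
import Groth.Prelude.Def_ComodSub
import Groth.Prelude.Def_SGA3

set_option autoImplicit false
universe u v w

open TensorProduct

namespace Groth.Agent.LineStab

open Groth.Agent.Comod

variable {k : Type u} [Field k] {A : Type u} [CommRing A] [HopfAlgebra k A]

theorem comul_slL (φ : A →ₗ[k] k) (y : A ⊗[k] A) :
    Coalgebra.comul (R := k) (slL φ y) = slL φ ((Coalgebra.comul (R := k)).lTensor A y) := by
  rw [slL_lTensor]

variable {R : Type u} [CommRing R] [Algebra k R]

theorem lTensor_slL_assoc (φ : A →ₗ[k] k) (g : A →ₗ[k] R) (y : A ⊗[k] A) :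
    g.lTensor A (slL φ (TensorProduct.assoc k A A A ((Coalgebra.comul (R := k)).rTensor A y))) =
      (slL φ ∘ₗ Coalgebra.comul (R := k)).rTensor R (g.lTensor A y) := by
  induction y with
  | zero => simp
  | add y z hy hz => simp only [map_add, hy, hz]
  | tmul p q =>
    simp only [LinearMap.rTensor_tmul, LinearMap.lTensor_tmul, LinearMap.comp_apply]
    generalize Coalgebra.comul (R := k) p = x
    induction x with
    | zero => simp
    | add y z hy hz => simp only [map_add, add_tmul, hy, hz]
    | tmul s t => simp [TensorProduct.smul_tmul']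

/-- translation of a coefficient by a point -/
theorem lTensor_comul_coeff (φ : A →ₗ[k] k) (g : A →ₗ[k] R) (x : A) :
    g.lTensor A (Coalgebra.comul (R := k) (slL φ (Coalgebra.comul (R := k) x))) =
      (slL φ ∘ₗ Coalgebra.comul (R := k)).rTensor R (g.lTensor A (Coalgebra.comul (R := k) x)) := by
  rw [comul_slL, ← Coalgebra.coassoc_apply, lTensor_slL_assoc]

/-- translation by a point, as an algebra map -/
noncomputable def transl (g : A →ₐ[k] R) : A →ₐ[k] A ⊗[k] R :=
  (Algebra.TensorProduct.map (AlgHom.id k A) g).comp (Bialgebra.comulAlgHom k A)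

theorem transl_apply (g : A →ₐ[k] R) (x : A) :
    transl g x = g.toLinearMap.lTensor A (Coalgebra.comul (R := k) x) := rfl

theorem slL_lTensor_point (φ : A →ₗ[k] k) (g : A →ₐ[k] R) (x : A) :
    slL φ (transl g x) = g (slL φ (Coalgebra.comul (R := k) x)) := by
  rw [transl_apply, slL_lTensor]; rfl

theorem slL_counit_transl (g : A →ₐ[k] R) (x : A) : slL (Coalgebra.counit (R := k)) (transl g x) = g x := by
  rw [slL_lTensor_point]
  congr 1
  simp [slL]

theorem exists_rTensor_ker {M : Type v} {P : Type w} [AddCommGroup M] [Module k M] [AddCommGroup P] [Module k P]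
    (q : M →ₗ[k] P) (z : M ⊗[k] R) (hz : q.rTensor R z = 0) :
    ∃ y, (LinearMap.ker q).subtype.rTensor R y = z :=
  (Module.Flat.rTensor_exact (R := k) R q.exact_subtype_ker_map z).1 hz

variable (I : Ideal A) [I.IsHopfIdeal k] {d : ℕ}

theorem exists_functionals (w : Fin d → A) (hw : LinearIndependent k w) :
    ∃ φ : Fin d → (A →ₗ[k] k), ∀ l j, φ l (w j) = if l = j then 1 else 0 := by
  classical
  obtain ⟨p, hp⟩ := LinearMap.exists_leftInverse_of_injective (Fintype.linearCombination k w)
    (LinearMap.ker_eq_bot.2 (linearIndependent_iff_injective_fintypeLinearCombination.1 hw))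
  refine ⟨fun l => LinearMap.proj l ∘ₗ p, fun l j => ?_⟩
  have := congrArg (fun F : (Fin d → k) →ₗ[k] (Fin d → k) => F (Pi.single j 1) l) hp
  simpa [Fintype.linearCombination_apply, Pi.single_apply, Finset.sum_ite_eq'] using this

/-- Chevalley: a closed subgroup is the stabilizer of a line. -/
theorem exists_line_stabilizer [Algebra.FiniteType k A] :
    ∃ (V : Type u) (_ : AddCommGroup V) (_ : Module k V) (_ : HopfRep.Comod k A V) (_ : Module.Finite k V) (v : V),
      v ≠ 0 ∧ Dyn.Represents k A I (fun R _ _ g => SGA3.StabilizesLine k A v R g) := by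
  classical
  haveI : IsNoetherianRing A := Algebra.FiniteType.isNoetherianRing k A
  obtain ⟨gens, hgens⟩ := IsNoetherian.noetherian I
  obtain ⟨V₀, hV₀, hgV, hV₀c⟩ := exists_finite_subcomod (k := k) (A := A) (V := A) (gens : Set A) gens.finite_toSet
  let W : Submodule k A := V₀ ⊓ I.restrictScalars k
  haveI : Module.Finite k W := Submodule.finiteDimensional_of_le inf_le_left
  let b := Module.finBasis k W
  let d := Module.finrank k W
  let w : Fin d → A := fun j => (b j : A)
  have hw : LinearIndependent k w := b.linearIndependent.map' W.subtype (Submodule.ker_subtype W)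
  have hε : ∀ x ∈ I, Coalgebra.counit (R := k) x = 0 := fun x hx => by
    have h0 := CoalgHomClass.counit_comp_apply (Bialgebra.Quotient.mkBialgHom (R := k) I) x
    rw [← h0]
    show Coalgebra.counit (R := k) (Ideal.Quotient.mk I x) = 0
    rw [Ideal.Quotient.eq_zero_iff_mem.2 hx, map_zero]
  obtain ⟨φ, hφ⟩ := exists_functionals w hw
  let a : (A →ₗ[k] k) → Fin d → A := fun ψ j => slL ψ (Coalgebra.comul (R := k) (w j))
  let Φ : Option (Fin d) → Fin d → (A →ₗ[k] k) := fun o =>
    o.elim φ (fun i => Function.update φ i (Coalgebra.counit (R := k)))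
  let Mat : Option (Fin d) → Matrix (Fin d) (Fin d) A := fun o => Matrix.of fun l j => a (Φ o l) j
  let m : Option (Fin d) → A := fun o => (Mat o).det
  letI cP : HopfRep.Comod k A (Option (Fin d) → A) :=
    ComodTens.Comod.pi (X := fun _ => A) fun _ => HopfRep.Comod.regular k A
  obtain ⟨M, hMf, hmM, hMc⟩ := exists_finite_subcomod (k := k) (A := A) (V := Option (Fin d) → A) {m}
    (Set.finite_singleton m)
  have hvM : m ∈ M := hmM rfl
  letI cM : HopfRep.Comod k A M := ComodSub.Comod.restr cP M hMc
  have hεa : ∀ ψ j, Coalgebra.counit (R := k) (a ψ j) = ψ (w j) := by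
    intro ψ j
    have h : ∀ y : A ⊗[k] A, Coalgebra.counit (R := k) (slL ψ y) =
        ψ (slR (Coalgebra.counit (R := k)) y) := by
      intro y
      induction y with
      | zero => simp
      | add y z hy hz => simp only [map_add, hy, hz]
      | tmul p q => simp [mul_comm]
    rw [show a ψ j = slL ψ (Coalgebra.comul (R := k) (w j)) from rfl, h]
    simp [slR]
  have hεm : ∀ o, Coalgebra.counit (R := k) (m o) = if o = none then 1 else 0 := by
    intro o
    show Bialgebra.counitAlgHom k A (Mat o).det = _
    rw [AlgHom.map_det]
    rcases o with _ | i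
    · rw [if_pos rfl]
      convert Matrix.det_one (n := Fin d) (R := k)
      ext l j
      simp [Mat, Φ, hεa, hφ, Matrix.one_apply]
    · rw [if_neg (by simp)]
      refine Matrix.det_eq_zero_of_row_eq_zero i fun j => ?_
      simp [Mat, Φ, hεa, hε (w j) (b j).2.2]
  refine ⟨M, inferInstance, inferInstance, cM, hMf, ⟨m, hvM⟩, ?_, ?_⟩
  · intro h
    have h1 : m none = 0 := congrFun (congrArg Subtype.val h) none
    have := hεm none
    rw [h1, map_zero, if_pos rfl] at this
    exact zero_ne_one this
  intro R _ _ g
  -- reformulation of the line condition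
  have hline : ∀ c : R, g.toLinearMap.lTensor M (cM.coact ⟨m, hvM⟩) = (⟨m, hvM⟩ : M) ⊗ₜ[k] c ↔
      ∀ o, transl g (m o) = m o ⊗ₜ[k] c := by
    intro c
    have hcoe : M.subtype.rTensor R (g.toLinearMap.lTensor M (cM.coact ⟨m, hvM⟩)) =
        g.toLinearMap.lTensor (Option (Fin d) → A) (cP.coact m) := by
      rw [← ComodSub.restr_coact_coe cP M hMc ⟨m, hvM⟩]
      exact LinearMap.congr_fun ((LinearMap.rTensor_comp_lTensor (f := M.subtype) (g := g.toLinearMap)).trans
        (LinearMap.lTensor_comp_rTensor (f := M.subtype) (g := g.toLinearMap)).symm) _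
    have hproj : ∀ o, (LinearMap.proj o : (Option (Fin d) → A) →ₗ[k] A).rTensor R
        (g.toLinearMap.lTensor (Option (Fin d) → A) (cP.coact m)) = transl g (m o) := by
      intro o
      rw [ComodTens.pi_coact, map_sum, map_sum, Finset.sum_eq_single o, transl_apply]
      · show _ = g.toLinearMap.lTensor A ((HopfRep.Comod.regular k A).coact (m o))
        generalize (HopfRep.Comod.regular k A).coact (m o) = y
        induction y with
        | zero => simp
        | add y z hy hz => simp only [map_add, hy, hz]
        | tmul p q => simp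
      · intro o' _ ho'
        generalize (HopfRep.Comod.regular k A).coact (m o') = y
        induction y with
        | zero => simp
        | add y z hy hz => simp only [map_add, hy, hz, add_zero]
        | tmul p q => simp [Pi.single_eq_of_ne ho'.symm]
      · exact fun h => absurd (Finset.mem_univ o) h
    constructor
    · intro h o
      rw [← hproj o, ← hcoe, h]
      simp
    · intro h
      apply Module.Flat.rTensor_preserves_injective_linearMap (M := R) M.subtype M.injective_subtype
      rw [hcoe, LinearMap.rTensor_tmul]
      apply (TensorProduct.piLeft (R := k) (N := R) (M := fun _ : Option (Fin d) => A)).injective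
      funext o
      have hpl : ∀ z, TensorProduct.piLeft (R := k) (N := R) (M := fun _ : Option (Fin d) => A) z o =
          (LinearMap.proj o : (Option (Fin d) → A) →ₗ[k] A).rTensor R z := by
        intro z
        induction z with
        | zero => simp
        | add y z hy hz => simp only [map_add, Pi.add_apply, hy, hz]
        | tmul p q => simp
      rw [hpl, hpl, hproj o, h o]
      rfl
  show _ ↔ ∃ c : R, _
  constructor
  · intro hg
    -- expansion of the translate of each `w j`
    have hexp : ∀ j, transl g (w j) = ∑ l, w l ⊗ₜ[k] g (a (φ l) j) := by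
      intro j
      have hx : transl g (w j) ∈ LinearMap.range (W.subtype.rTensor R) := by
        obtain ⟨y, hy⟩ := hV₀c (w j) (b j).2.1
        let q : V₀ →ₗ[k] A ⧸ I := (Ideal.Quotient.mkₐ k I).toLinearMap ∘ₗ V₀.subtype
        have hy' : transl g (w j) = V₀.subtype.rTensor R (g.toLinearMap.lTensor V₀ y) := by
          rw [transl_apply, ← LinearMap.comp_apply (LinearMap.rTensor R V₀.subtype),
            LinearMap.rTensor_comp_lTensor, ← LinearMap.lTensor_comp_rTensor, LinearMap.comp_apply, hy]
          rfl
        have hq : q.rTensor R (g.toLinearMap.lTensor V₀ y) = 0 := by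
          show ((Ideal.Quotient.mkₐ k I).toLinearMap ∘ₗ V₀.subtype).rTensor R _ = 0
          rw [LinearMap.rTensor_comp, LinearMap.comp_apply, ← hy', transl_apply]
          have hΔ : Algebra.TensorProduct.map (Ideal.Quotient.mkₐ k I) g
              (Bialgebra.comulAlgHom k A (w j)) = 0 := by
            obtain ⟨gbar, rfl⟩ : ∃ gbar : (A ⧸ I) →ₐ[k] R, gbar.comp (Ideal.Quotient.mkₐ k I) = g :=
              ⟨Ideal.Quotient.liftₐ I g hg, AlgHom.ext fun _ => rfl⟩
            have h0 : (Bialgebra.comulAlgHom k (A ⧸ I)).comp (Ideal.Quotient.mkₐ k I) =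
                (Algebra.TensorProduct.map (Ideal.Quotient.mkₐ k I) (Ideal.Quotient.mkₐ k I)).comp
                  (Bialgebra.comulAlgHom k A) :=
              (BialgHomClass.map_comp_comulAlgHom (Bialgebra.Quotient.mkBialgHom (R := k) I)).symm
            have h1 := AlgHom.congr_fun h0 (w j)
            simp only [AlgHom.comp_apply] at h1
            have hzero : Ideal.Quotient.mkₐ k I (w j) = 0 := Ideal.Quotient.eq_zero_iff_mem.2 (b j).2.2
            rw [hzero, map_zero] at h1
            have h2 : Algebra.TensorProduct.map (Ideal.Quotient.mkₐ k I) (gbar.comp (Ideal.Quotient.mkₐ k I)) =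
                (Algebra.TensorProduct.map (AlgHom.id k (A ⧸ I)) gbar).comp
                  (Algebra.TensorProduct.map (Ideal.Quotient.mkₐ k I) (Ideal.Quotient.mkₐ k I)) := by
              apply Algebra.TensorProduct.ext' fun p q => by simp
            rw [h2, AlgHom.comp_apply, ← h1, map_zero]
          rw [← hΔ]
          show _ = Algebra.TensorProduct.map (Ideal.Quotient.mkₐ k I) g (Coalgebra.comul (R := k) (w j))
          generalize Coalgebra.comul (R := k) (w j) = z
          induction z with
          | zero => simp
          | add y z hy hz => simp only [map_add, hy, hz]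
          | tmul p r => simp
        obtain ⟨z, hz⟩ := exists_rTensor_ker (k := k) q (g.toLinearMap.lTensor V₀ y) hq
        have hle : ∀ x : LinearMap.ker q, ((x : V₀) : A) ∈ W := fun x =>
          ⟨(x : V₀).2, Ideal.Quotient.eq_zero_iff_mem.1 x.2⟩
        let ι : LinearMap.ker q →ₗ[k] W := (V₀.subtype ∘ₗ (LinearMap.ker q).subtype).codRestrict W hle
        refine ⟨ι.rTensor R z, ?_⟩
        rw [hy', ← hz, ← LinearMap.comp_apply, ← LinearMap.rTensor_comp,
          ← LinearMap.comp_apply (LinearMap.rTensor R V₀.subtype), ← LinearMap.rTensor_comp]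
        rfl
      obtain ⟨z, hz⟩ := hx
      have hgen : ∀ z : W ⊗[k] R, W.subtype.rTensor R z =
          ∑ l, w l ⊗ₜ[k] slL (φ l) (W.subtype.rTensor R z) := by
        intro z
        induction z with
        | zero => simp
        | add y z hy hz => simp only [map_add, tmul_add, Finset.sum_add_distrib, ← hy, ← hz]
        | tmul x r =>
          have hx : (x : A) = ∑ l, φ l (x : A) • w l := by
            have hb : (x : A) = ∑ l, b.repr x l • w l := by
              conv_lhs => rw [← b.sum_repr x]
              simp only [Submodule.coe_sum, Submodule.coe_smul]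
              rfl
            have hc : ∀ l, φ l (x : A) = b.repr x l := fun l => by
              rw [hb, map_sum]
              simp [hφ, Finset.sum_ite_eq]
            simp only [hc]
            exact hb
          simp only [LinearMap.rTensor_tmul, Submodule.coe_subtype, slL_tmul]
          conv_lhs => rw [hx]
          rw [TensorProduct.sum_tmul]
          exact Finset.sum_congr rfl fun l _ => by rw [TensorProduct.smul_tmul]
      rw [← hz, hgen z]
      refine Finset.sum_congr rfl fun l _ => ?_
      rw [hz, slL_lTensor_point]
    let G : Matrix (Fin d) (Fin d) R := Matrix.of fun l j => g (a (φ l) j)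
    refine ⟨G.det, (hline G.det).2 fun o => ?_⟩
    show transl g (Mat o).det = _
    have hmat : (transl g).mapMatrix (Mat o) =
        ((Algebra.TensorProduct.includeLeft : A →ₐ[k] A ⊗[k] R).mapMatrix (Mat o)) *
          ((Algebra.TensorProduct.includeRight : R →ₐ[k] A ⊗[k] R).mapMatrix G) := by
      ext l j
      simp only [AlgHom.mapMatrix_apply, Matrix.map_apply, Matrix.mul_apply, Mat, G, Matrix.of_apply,
        Algebra.TensorProduct.includeLeft_apply, Algebra.TensorProduct.includeRight_apply,
        Algebra.TensorProduct.tmul_mul_tmul, mul_one, one_mul]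
      show transl g (slL (Φ o l) (Coalgebra.comul (R := k) (w j))) = _
      rw [transl_apply, lTensor_comul_coeff, ← transl_apply, hexp j, map_sum]
      rfl
    rw [AlgHom.map_det, hmat, Matrix.det_mul, ← AlgHom.map_det, ← AlgHom.map_det]
    simp [m]
  · rintro ⟨c, hc⟩
    have hc' := (hline c).1 hc
    have hgm : ∀ o, g (m o) = if o = none then c else 0 := by
      intro o
      have := congrArg (slL (Coalgebra.counit (R := k))) (hc' o)
      rw [slL_counit_transl, slL_tmul, hεm o] at this
      rw [this]
      split_ifs <;> simp
    have hu : g (HopfAlgebraStruct.antipode k (m none)) * c = 1 := by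
      have h1 := congrArg (TensorProduct.lift ((LinearMap.mul k R).comp
        (g.toLinearMap ∘ₗ HopfAlgebraStruct.antipode k))) (hc' none)
      simp only [TensorProduct.lift.tmul, LinearMap.comp_apply, LinearMap.mul_apply', AlgHom.toLinearMap_apply] at h1
      have h2 : ∀ y : A ⊗[k] A, TensorProduct.lift ((LinearMap.mul k R).comp
          (g.toLinearMap ∘ₗ HopfAlgebraStruct.antipode k)) (g.toLinearMap.lTensor A y) =
          g (LinearMap.mul' k A ((HopfAlgebraStruct.antipode k).rTensor A y)) := by
        intro y
        induction y with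
        | zero => simp
        | add y z hy hz => simp only [map_add, hy, hz]
        | tmul p q => simp
      rw [transl_apply, h2, HopfAlgebra.mul_antipode_rTensor_comul_apply, AlgHom.commutes, hεm none, if_pos rfl,
        map_one] at h1
      exact h1.symm
    let N : Matrix (Fin d) (Fin d) R := Matrix.of fun l j => g (a (φ l) j)
    have hN : N.det = c := by
      have := hgm none
      rw [if_pos rfl, show m none = (Mat none).det from rfl, AlgHom.map_det] at this
      exact this
    have hrow : ∀ j, g (w j) = 0 := by
      let r : Fin d → R := fun j => g (a (Coalgebra.counit (R := k)) j)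
      have h0 : ∀ i, (N.updateRow i r).det = 0 := by
        intro i
        have := hgm (some i)
        rw [if_neg (by simp), show m (some i) = (Mat (some i)).det from rfl, AlgHom.map_det] at this
        rw [← this]
        congr 1
        ext l j
        by_cases hl : l = i
        · subst hl; simp [Mat, Φ, r]
        · simp [Mat, Φ, N, Matrix.updateRow_ne hl, Function.update_of_ne hl]
      have h1 : N.transpose.adjugate.mulVec r = 0 := by
        funext i
        rw [← Matrix.cramer_eq_adjugate_mulVec, Matrix.cramer_transpose_apply]
        exact h0 i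
      have h2 : N.transpose.det • r = 0 := by
        rw [← Matrix.one_mulVec r, ← Matrix.smul_mulVec, ← Matrix.mul_adjugate, ← Matrix.mulVec_mulVec, h1,
          Matrix.mulVec_zero]
      intro j
      have h3 := congrFun h2 j
      rw [Matrix.det_transpose, hN, Pi.smul_apply, smul_eq_mul, Pi.zero_apply] at h3
      have h4 : r j = 0 := by
        have := congrArg (g (HopfAlgebraStruct.antipode k (m none)) * ·) h3
        simpa [← mul_assoc, hu] using this
      have h5 : a (Coalgebra.counit (R := k)) j = w j := by simp [a, slL]
      rwa [← h5]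
    intro x hx
    have hle : I ≤ RingHom.ker g := by
      rw [← hgens]
      refine Ideal.span_le.2 fun e he => ?_
      have heW : e ∈ W := ⟨hgV he, hgens ▸ Ideal.subset_span he⟩
      have : (g e : R) = ∑ l, b.repr ⟨e, heW⟩ l • g (w l) := by
        conv_lhs => rw [show e = ((∑ l, b.repr ⟨e, heW⟩ l • b l : W) : A) by rw [b.sum_repr]]
        simp only [Submodule.coe_sum, Submodule.coe_smul, map_sum, map_smul]
        rfl
      show g e = 0
      simp [this, hrow]
    exact hle hx

end Groth.Agent.LineStab
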